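import Cfsg.Agent.SoftSubgroup.Count

/-!
Héthelyi: the tower of subgroups above a soft subgroup.
-/

set_option autoImplicit false

universe u

namespace CfsgLib.SoftSubgroup

open Subgroup
open scoped commutatorElement

variable {p : ℕ} [hp : Fact p.Prime]

/-- The properties of the tower above a soft subgroup. -/
structure Tower {P : Type u} [Group P] (p : ℕ) (E : Subgroup P) : Prop where
  succ : ∀ K : Subgroup P, E ≤ K → K ≠ ⊤ → K.relIndex (normalizer (K : Set P)) = p
  central : ∀ K : Subgroup P, E ≤ K → K ≠ ⊤ →
    ⁅normalizer (E : Set P), normalizer (E : Set P)⁆ ≤ centralizer (K : Set P)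
  cls : ∀ (i : ℕ) (K : Subgroup P), E ≤ K → K ≠ ⊤ → K.index * p ^ i = E.index →
    K.lowerCentralSeries (i + 1) = ⊥

section Quotient

variable {P Q : Type u} [Group P] [Group Q] (f : P →* Q)

theorem comap_map_normalizer (hf : Function.Surjective f) {A : Subgroup P} (hA : f.ker ≤ A) :
    (normalizer ((A.map f : Subgroup Q) : Set Q)).comap f = normalizer (A : Set P) := by
  rw [comap_normalizer_eq_of_surjective _ hf, comap_map_eq_self hA]

theorem map_normalizer (hf : Function.Surjective f) {A : Subgroup P} (hA : f.ker ≤ A) :
    normalizer ((A.map f : Subgroup Q) : Set Q) = (normalizer (A : Set P)).map f := by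
  rw [← comap_map_normalizer f hf hA, map_comap_eq_self_of_surjective hf]

theorem relIndex_map_normalizer (hf : Function.Surjective f) {A : Subgroup P} (hA : f.ker ≤ A) :
    (A.map f).relIndex (normalizer ((A.map f : Subgroup Q) : Set Q)) =
      A.relIndex (normalizer (A : Set P)) := by
  conv_rhs => rw [← comap_map_normalizer f hf hA]; arg 1; rw [← comap_map_eq_self hA]
  rw [relIndex_comap, map_comap_eq_self_of_surjective hf]

theorem index_map (hf : Function.Surjective f) {A : Subgroup P} (hA : f.ker ≤ A) :
    (A.map f).index = A.index := by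
  conv_rhs => rw [← comap_map_eq_self hA]
  rw [index_comap_of_surjective _ hf]

theorem map_ne_top (hf : Function.Surjective f) {A : Subgroup P} (hA : f.ker ≤ A) (h : A ≠ ⊤) :
    A.map f ≠ ⊤ := fun h' => h (index_eq_one.1 (by rw [← index_map f hf hA, h', index_top]))

end Quotient

variable {P : Type u} [Group P] [Finite P] {E : Subgroup P}

theorem card_quotient_lt {R : Subgroup P} [R.Normal] (hR : R ≠ ⊥) :
    Nat.card (P ⧸ R) < Nat.card P := by
  rw [card_eq_card_quotient_mul_card_subgroup R]
  exact lt_mul_of_one_lt_right Nat.card_pos ((Subgroup.one_lt_card_iff_ne_bot _).2 hR)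

/-- Above `E` there is only `E` or a subgroup containing `N(E)`. -/
theorem IsSoft.cases (hP : IsPGroup p P) (h : IsSoft p E) {K : Subgroup P} (hK : E ≤ K) :
    K = E ∨ normalizer (E : Set P) ≤ K :=
  (eq_or_lt_of_le hK).imp Eq.symm fun h' => h.normalizer_le hP h'

/-- Reduction modulo the centre. -/
theorem IsSoft.map_center (hP : IsPGroup p P) (h : IsSoft p E)
    (hT : ¬ ⁅normalizer (E : Set P), normalizer (E : Set P)⁆ ≤ center P) :
    IsSoft p (E.map (QuotientGroup.mk' (center P))) := by
  set f := QuotientGroup.mk' (center P)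
  have hf : Function.Surjective f := QuotientGroup.mk'_surjective _
  have hker : f.ker ≤ E := by
    rw [QuotientGroup.ker_mk']
    exact (center_le_centralizer _).trans h.cent
  refine ⟨?_, fun x hx => ?_, (relIndex_map_normalizer f hf hker).trans h.idx,
    (index_map f hf hker).symm ▸ h.two⟩
  · have := h.comm
    exact Subgroup.map_isMulCommutative E f
  obtain ⟨g, rfl⟩ := hf x
  have hgN : g ∈ normalizer (E : Set P) := by
    rw [← comap_map_normalizer f hf hker, mem_comap]
    exact centralizer_le_normalizer _ hx
  refine ⟨g, by_contra fun hgE => hT ?_, rfl⟩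
  rw [← QuotientGroup.ker_mk' (center P)]
  exact h.commutator_le_of_commuting hP f hgN hgE fun e he =>
    mem_centralizer_iff.1 hx _ ⟨e, he, rfl⟩

/-- The main induction. -/
theorem tower : ∀ (n : ℕ) (P : Type u) [Group P] [Finite P], Nat.card P = n → IsPGroup p P →
    ∀ E : Subgroup P, IsSoft p E → Tower p E := by
  intro n
  induction n using Nat.strongRecOn with
  | ind n ih =>
  intro P _ _ hn hP E h
  set N := normalizer (E : Set P) with hNdef
  set T := ⁅N, N⁆ with hTdef
  have hTE : T ≤ E := h.commutator_le hP
  have hTN : T ≤ centralizer (N : Set P) := h.commutator_le_centralizer hP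
  -- the commutator of `N(E)` is central in every proper overgroup
  have hcen : ∀ K : Subgroup P, E ≤ K → K ≠ ⊤ → T ≤ centralizer (K : Set P) := by
    by_cases hT : T ≤ center P
    · exact fun K _ _ => hT.trans (center_le_centralizer _)
    set f := QuotientGroup.mk' (center P) with hf'
    have hf : Function.Surjective f := QuotientGroup.mk'_surjective _
    have hker : f.ker ≤ E := by
      rw [hf', QuotientGroup.ker_mk']
      exact (center_le_centralizer _).trans h.cent
    have hU : center P ≠ ⊥ := by
      have : Nontrivial P := nontrivial_iff.1 (by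
        by_contra hc
        rw [not_nontrivial_iff_subsingleton] at hc
        exact h.ne_top (Subsingleton.elim _ _))
      exact (nontrivial_iff_ne_bot _).1 hP.center_nontrivial
    have hsoft : IsSoft p (E.map f) := h.map_center hP hT
    have hTw : Tower p (E.map f) :=
      ih _ (hn ▸ card_quotient_lt hU) (P ⧸ center P) rfl (hP.to_quotient _) _ hsoft
    have hsucc : ∀ K : Subgroup P, E ≤ K → K ≠ ⊤ → K.relIndex (normalizer (K : Set P)) = p :=
      fun K hK hKt => (relIndex_map_normalizer f hf (hker.trans hK)).symm.trans
        (hTw.succ _ (map_mono hK) (map_ne_top f hf (hker.trans hK) hKt))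
    intro K
    induction hc : Nat.card K using Nat.strongRecOn generalizing K with
    | ind m ihm =>
    intro hEK hKt
    rcases h.cases hP hEK with rfl | hNK
    · have := h.comm
      exact hTE.trans (le_centralizer K)
    rcases eq_or_lt_of_le hNK with rfl | hNK
    · exact hTN
    obtain ⟨A, hNA, hA⟩ := Finite.exists_le_maximal (p := fun A : Subgroup P => A < K) (a := N) hNK
    have hAK : A < K := hA.prop
    have hEA : E ≤ A := le_normalizer.trans hNA
    have hAt : A ≠ ⊤ := (lt_of_lt_of_le hAK le_top).ne
    have hTA : T ≤ centralizer (A : Set P) :=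
      ihm _ (hc ▸ lt_of_le_of_ne (card_le_of_le hAK.le) fun he =>
        hAK.ne (eq_of_le_of_card_ge hAK.le he.ge)) A rfl hEA hAt
    have hAN : normalizer (A : Set P) = K := by
      have hle : normalizer (A : Set P) ≤ K := normalizer_le_of_lt hP (hsucc A hEA hAt) hAK
      refine (eq_or_lt_of_le hle).resolve_right fun hl => ?_
      have h1 := lt_inf_normalizer hP (lt_top_iff_ne_top.2 hAt)
      rw [top_inf_eq] at h1
      exact h1.not_ge (hA.le_of_ge hl h1.le)
    obtain ⟨z, hz, hzK⟩ := SetLike.not_le_iff_exists.1 (show
      ¬ normalizer (K : Set P) ≤ K from fun hle => by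
        have h1 := lt_inf_normalizer hP (lt_top_iff_ne_top.2 hKt)
        rw [top_inf_eq] at h1
        exact h1.not_ge hle)
    let B := A.map (MulAut.conj z).toMonoidHom
    have hKz : K.map (MulAut.conj z).toMonoidHom = K := mem_normalizer_iff_map_conj_eq.1 hz
    have hBK : B ≤ K := hKz ▸ map_mono hAK.le
    have hcB : Nat.card B = Nat.card A :=
      card_map_of_injective (f := (MulAut.conj z).toMonoidHom) (MulAut.conj z).injective
    have hBA : B ≠ A := fun he => hzK (hAN ▸ mem_normalizer_iff_map_conj_eq.2 he)
    have hEB : ¬ E ≤ B := fun hle => by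
      rcases total_of_succ hP hsucc hle hEA with h1 | h1
      · exact hBA (eq_of_le_of_card_ge h1 hcB.ge)
      · exact hBA (eq_of_le_of_card_ge h1 hcB.le).symm
    have hsup : K ≤ E ⊔ B := by
      have hlt : B < E ⊔ B := lt_of_le_of_ne le_sup_right fun he => hEB (he ▸ le_sup_left)
      set L := (E ⊔ B).comap (MulAut.conj z).toMonoidHom with hL
      have hAL : A < L := by
        refine lt_of_le_of_ne (fun x hx => hlt.le ⟨x, hx, rfl⟩) fun he => hlt.ne ?_
        show A.map (MulAut.conj z).toMonoidHom = E ⊔ B
        rw [he, hL, map_comap_eq_self_of_surjective (MulAut.conj z).surjective]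
      have hKL : K ≤ L := hAN ▸ normalizer_le_of_lt hP (hsucc A hEA hAt) hAL
      rw [← hKz, ← map_comap_eq_self_of_surjective (f := (MulAut.conj z).toMonoidHom)
        (MulAut.conj z).surjective (E ⊔ B)]
      exact map_mono hKL
    have hEA' : E ≤ centralizer ((T.map (MulAut.conj z).toMonoidHom : Subgroup P) : Set P) := by
      rw [le_centralizer_iff]
      have := h.comm
      refine le_trans ?_ (le_centralizer E)
      rintro _ ⟨t, ht, rfl⟩
      have h1 : f t ∈ centralizer ((K.map f : Subgroup _) : Set _) :=
        hTw.central _ (map_mono hEK) (map_ne_top f hf (hker.trans hEK) hKt) (by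
          rw [map_normalizer f hf hker, ← map_commutator]
          exact mem_map_of_mem f ht)
      have h2 : f z ∈ normalizer ((K.map f : Subgroup _) : Set _) := by
        rw [map_normalizer f hf (hker.trans hEK)]
        exact mem_map_of_mem f hz
      have h3 : f (z * t * z⁻¹) ∈ centralizer ((E.map f : Subgroup _) : Set _) := by
        refine mem_centralizer_iff.2 fun e he => ?_
        have he' : (f z)⁻¹ * e * f z ∈ K.map f :=
          (mem_normalizer_iff.1 h2 _).2 (by simpa [mul_assoc] using map_mono hEK he)
        rw [map_mul, map_mul, map_inv]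
        calc e * (f z * f t * (f z)⁻¹)
            = f z * (((f z)⁻¹ * e * f z) * f t) * (f z)⁻¹ := by group
          _ = f z * (f t * ((f z)⁻¹ * e * f z)) * (f z)⁻¹ := by rw [mem_centralizer_iff.1 h1 _ he']
          _ = f z * f t * (f z)⁻¹ * e := by group
      have h4 : z * t * z⁻¹ ∈ E := by
        rw [← comap_map_eq_self hker, mem_comap]
        exact hsoft.cent h3
      simpa using h4
    have hBA' : B ≤ centralizer ((T.map (MulAut.conj z).toMonoidHom : Subgroup P) : Set P) := by
      rw [le_centralizer_iff]
      rintro _ ⟨t, ht, rfl⟩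
      refine mem_centralizer_iff.2 fun b hb => ?_
      obtain ⟨a, ha, rfl⟩ := hb
      simp only [MulEquiv.coe_toMonoidHom, ← map_mul, mem_centralizer_iff.1 (hTA ht) a ha]
    intro t ht
    refine mem_centralizer_iff.2 fun k hk => ?_
    have h5 := mem_centralizer_iff.1 (sup_le hEA' hBA' (hsup (show z * k * z⁻¹ ∈ K from
      (mem_normalizer_iff.1 hz k).1 hk))) _ ⟨t, ht, rfl⟩
    have h6 : MulAut.conj z (t * k) = MulAut.conj z (k * t) := by
      rw [map_mul, map_mul]; simpa using h5
    exact ((MulAut.conj z).injective h6).symm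
  -- reduction modulo the normal closure of the commutator of `N(E)`
  set R := normalClosure (T : Set P) with hR
  have hRK : ∀ K : Subgroup P, E ≤ K → K ≠ ⊤ → R ≤ centralizer (K : Set P) := by
    intro K hEK hKt
    obtain ⟨Km, hKKm, hKm⟩ := Finite.exists_le_maximal (p := fun A : Subgroup P => A ≠ ⊤) (a := K) hKt
    have hKmn : Km.Normal := by
      refine normalizer_eq_top_iff.1 (by_contra fun hne => ?_)
      have h1 := lt_inf_normalizer hP (lt_top_iff_ne_top.2 hKm.prop)
      rw [top_inf_eq] at h1
      exact h1.not_ge (hKm.le_of_ge hne h1.le)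
    exact (normalClosure_le_normal (hcen Km (hEK.trans hKKm) hKm.prop)).trans (centralizer_le hKKm)
  have hRE : R ≤ E := (hRK E le_rfl h.ne_top).trans h.cent
  have hRbot : R ≠ ⊥ := fun he =>
    h.commutator_ne_bot (eq_bot_iff.2 (he ▸ le_normalClosure))
  set f := QuotientGroup.mk' R with hf'
  have hf : Function.Surjective f := QuotientGroup.mk'_surjective _
  have hker : f.ker = R := QuotientGroup.ker_mk' R
  have hkN : f.ker ≤ N := by rw [hker]; exact hRE.trans le_normalizer
  have hkE : f.ker ≤ E := by rw [hker]; exact hRE
  have hcomm : IsMulCommutative ↥(N.map f) := by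
    refine le_centralizer_iff_isMulCommutative.1 ?_
    rw [← commutator_eq_bot_iff_le_centralizer, ← map_commutator, Subgroup.map_eq_bot_iff, hker]
    exact le_normalClosure
  by_cases h2 : p ^ 2 ≤ N.index
  · have hsoft : IsSoft p (N.map f) := by
      refine ⟨hcomm, fun x hx => ?_, ?_, (index_map f hf hkN).symm ▸ h2⟩
      · obtain ⟨g, rfl⟩ := hf x
        refine ⟨g, ?_, rfl⟩
        show g ∈ normalizer (E : Set P)
        rw [← comap_map_normalizer f hf hkE, mem_comap]
        exact centralizer_le_normalizer _ (centralizer_le (map_mono le_normalizer) hx)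
      · rw [relIndex_map_normalizer f hf hkN]
        exact h.relIndex_normalizer_normalizer hP
    have hTw : Tower p (N.map f) :=
      ih _ (hn ▸ card_quotient_lt hRbot) (P ⧸ R) rfl (hP.to_quotient _) _ hsoft
    refine ⟨fun K hEK hKt => ?_, hcen, fun i K hEK hKt hi => ?_⟩
    · rcases h.cases hP hEK with rfl | hNK
      · exact h.idx
      · exact (relIndex_map_normalizer f hf (hkN.trans hNK)).symm.trans
          (hTw.succ _ (map_mono hNK) (map_ne_top f hf (hkN.trans hNK) hKt))
    · rcases h.cases hP hEK with rfl | hNK
      · refine eq_bot_iff.2 (le_trans (K.lowerCentralSeries_antitone (Nat.le_add_left 1 i)) ?_)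
        rw [Subgroup.lowerCentralSeries_succ, Subgroup.lowerCentralSeries_zero, le_bot_iff,
          commutator_eq_bot_iff_le_centralizer]
        exact le_centralizer_iff_isMulCommutative.2 h.comm
      obtain ⟨j, rfl⟩ : ∃ j, i = j + 1 := by
        refine Nat.exists_eq_succ_of_ne_zero ?_
        rintro rfl
        rw [pow_zero, mul_one] at hi
        have h1 := Nat.le_of_dvd (Nat.pos_of_ne_zero FiniteIndex.index_ne_zero)
          (index_dvd_of_le hNK)
        rw [hi, ← h.normalizer_index] at h1
        have : 0 < N.index := Nat.pos_of_ne_zero FiniteIndex.index_ne_zero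
        nlinarith [hp.out.two_le]
      have hi' : (K.map f).index * p ^ j = (N.map f).index := by
        rw [index_map f hf (hkN.trans hNK), index_map f hf hkN]
        refine Nat.eq_of_mul_eq_mul_left hp.out.pos ?_
        rw [h.normalizer_index, ← hi, pow_succ]
        ring
      have h1 := hTw.cls j _ (map_mono hNK) (map_ne_top f hf (hkN.trans hNK) hKt) hi'
      rw [← map_lowerCentralSeries, Subgroup.map_eq_bot_iff, hker] at h1
      rw [Subgroup.lowerCentralSeries_succ, eq_bot_iff]
      refine (commutator_mono h1 le_rfl).trans (le_of_eq ?_)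
      exact commutator_eq_bot_iff_le_centralizer.2 (hRK K hEK hKt)
  · -- `N(E)` has index `p`
    have hNi : N.index = p := by
      obtain ⟨j, hj⟩ := hP.index N
      have hNt := h.normalizer_ne_top
      rcases Nat.lt_or_ge j 2 with hj2 | hj2
      · interval_cases j
        · exact absurd (index_eq_one.1 (by rw [hj, pow_zero])) hNt
        · rw [hj, pow_one]
      · exact absurd (hj ▸ Nat.pow_le_pow_right hp.out.pos hj2) h2
    have hcases : ∀ K : Subgroup P, E ≤ K → K ≠ ⊤ → K = E ∨ K = N := by
      intro K hEK hKt
      refine (h.cases hP hEK).imp id fun hNK => ?_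
      have hd := index_dvd_of_le hNK
      rw [hNi] at hd
      rcases hp.out.eq_one_or_self_of_dvd _ hd with h1 | h1
      · exact absurd (index_eq_one.1 h1) hKt
      · refine (eq_of_le_of_card_ge hNK (le_of_eq ?_)).symm
        have e1 := card_mul_index K
        have e2 := card_mul_index N
        rw [h1] at e1
        rw [hNi] at e2
        exact Nat.eq_of_mul_eq_mul_right hp.out.pos (e1.trans e2.symm)
    refine ⟨fun K hEK hKt => ?_, hcen, fun i K hEK hKt hi => ?_⟩
    · rcases hcases K hEK hKt with rfl | rfl
      exacts [h.idx, h.relIndex_normalizer_normalizer hP]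
    · have hc2 : N.lowerCentralSeries 2 = ⊥ := by
        rw [Subgroup.lowerCentralSeries_succ, Subgroup.lowerCentralSeries_succ, Subgroup.lowerCentralSeries_zero]
        exact commutator_eq_bot_iff_le_centralizer.2 hTN
      rcases hcases K hEK hKt with rfl | rfl
      · refine eq_bot_iff.2 (le_trans (K.lowerCentralSeries_antitone (Nat.le_add_left 1 i)) ?_)
        rw [Subgroup.lowerCentralSeries_succ, Subgroup.lowerCentralSeries_zero, le_bot_iff,
          commutator_eq_bot_iff_le_centralizer]
        exact le_centralizer_iff_isMulCommutative.2 h.comm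
      · have hi1 : 1 ≤ i := Nat.one_le_iff_ne_zero.2 fun h0 => by
          rw [h0, pow_zero, mul_one, ← h.normalizer_index, ← hNdef, hNi] at hi
          nlinarith [hp.out.two_le]
        exact eq_bot_iff.2 (hc2 ▸ N.lowerCentralSeries_antitone (by omega))

end CfsgLib.SoftSubgroup
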