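import Mathlib.GroupTheory.Nilpotent
import Mathlib.GroupTheory.PGroup
import Cfsg.Agent.PLocal.Thompson

/-!
Soft subgroups of `p`-groups (Héthelyi): basic facts about the first normalizer.
-/

set_option autoImplicit false

namespace CfsgLib.SoftSubgroup

open Subgroup
open scoped commutatorElement

variable {P : Type*} [Group P] [Finite P] {p : ℕ}

/-- In a `p`-group a proper inclusion grows inside the normalizer. -/
theorem lt_inf_normalizer (hP : IsPGroup p P) [Fact p.Prime] {A L : Subgroup P} (h : A < L) :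
    A < L ⊓ normalizer (A : Set P) := by
  refine lt_of_le_of_ne (le_inf h.le le_normalizer) fun heq => ?_
  have := (hP.to_subgroup L).isNilpotent
  have hne : A.subgroupOf L < ⊤ := lt_top_iff_ne_top.2 fun h' =>
    h.not_ge (subgroupOf_eq_top.1 h')
  have h2 := Group.normalizerCondition_of_isNilpotent (A.subgroupOf L) hne
  rw [← subgroupOf_normalizer_eq h.le] at h2
  refine h2.ne (le_antisymm h2.le fun x hx => ?_)
  exact mem_subgroupOf.2 (heq.symm ▸ Subgroup.mem_inf.2 ⟨x.2, mem_subgroupOf.1 hx⟩)

/-- If the normalizer index is `p`, everything strictly above contains the normalizer. -/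
theorem normalizer_le_of_lt (hP : IsPGroup p P) [hp : Fact p.Prime] {A L : Subgroup P}
    (hA : A.relIndex (normalizer (A : Set P)) = p) (h : A < L) : normalizer (A : Set P) ≤ L := by
  have hlt := lt_inf_normalizer hP h
  have hmul := relIndex_mul_relIndex A (L ⊓ normalizer (A : Set P)) _ hlt.le inf_le_right
  rw [hA] at hmul
  rcases hp.out.eq_one_or_self_of_dvd _ ⟨_, hmul.symm⟩ with h1 | h1
  · exact absurd (relIndex_eq_one.1 h1) hlt.not_ge
  · rw [h1] at hmul
    have h2 : (L ⊓ normalizer (A : Set P)).relIndex (normalizer (A : Set P)) = 1 := by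
      nlinarith [hp.out.pos]
    exact (relIndex_eq_one.1 h2).trans inf_le_left

/-- Normalizer index `p` above `E` makes the overgroups of `E` a chain. -/
theorem total_of_succ (hP : IsPGroup p P) [Fact p.Prime] {E : Subgroup P}
    (hs : ∀ K : Subgroup P, E ≤ K → K ≠ ⊤ → K.relIndex (normalizer (K : Set P)) = p)
    {K L : Subgroup P} (hK : E ≤ K) (hL : E ≤ L) : K ≤ L ∨ L ≤ K := by
  by_contra h
  push Not at h
  have hlK : K ⊓ L < K := lt_of_le_of_ne inf_le_left fun h' => h.1 (h' ▸ inf_le_right)
  have hlL : K ⊓ L < L := lt_of_le_of_ne inf_le_right fun h' => h.2 (h' ▸ inf_le_left)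
  have hne : K ⊓ L ≠ ⊤ := fun h' => (lt_of_lt_of_le hlK le_top).ne h'
  have hi := hs _ (le_inf hK hL) hne
  have h1 : normalizer ((K ⊓ L : Subgroup P) : Set P) ≤ K ⊓ L :=
    le_inf (normalizer_le_of_lt hP hi hlK) (normalizer_le_of_lt hP hi hlL)
  rw [relIndex_eq_one.2 h1] at hi
  exact (Fact.out : p.Prime).ne_one hi.symm

/-- A soft subgroup of index at least `p²`. -/
structure IsSoft (p : ℕ) (E : Subgroup P) : Prop where
  comm : IsMulCommutative ↥E
  cent : centralizer (E : Set P) ≤ E
  idx : E.relIndex (normalizer (E : Set P)) = p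
  two : p ^ 2 ≤ E.index

variable {E : Subgroup P} [hp : Fact p.Prime]

theorem IsSoft.ne_top (h : IsSoft p E) : E ≠ ⊤ := fun he => by
  have h2 := h.two
  rw [he, index_top] at h2
  nlinarith [hp.out.two_le]

theorem IsSoft.lt_normalizer (h : IsSoft p E) : E < normalizer (E : Set P) :=
  lt_of_le_of_ne le_normalizer fun he => hp.out.ne_one <| by
    have := h.idx
    rw [← he, relIndex_self] at this
    exact this.symm

theorem IsSoft.normalizer_index (h : IsSoft p E) : p * (normalizer (E : Set P)).index = E.index := by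
  rw [← h.idx]
  exact relIndex_mul_index le_normalizer

theorem IsSoft.normalizer_ne_top (h : IsSoft p E) : normalizer (E : Set P) ≠ ⊤ := fun he => by
  have h2 := h.two
  rw [← h.normalizer_index, he, index_top] at h2
  nlinarith [hp.out.two_le]

/-- A subgroup strictly above `E` contains `N(E)`. -/
theorem IsSoft.normalizer_le (hP : IsPGroup p P) (h : IsSoft p E) {K : Subgroup P} (hK : E < K) :
    normalizer (E : Set P) ≤ K :=
  normalizer_le_of_lt hP h.idx hK

/-- Nothing is strictly between `E` and `N(E)`. -/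
theorem IsSoft.eq_or_eq (hP : IsPGroup p P) (h : IsSoft p E) {K : Subgroup P} (hK : E ≤ K)
    (hKN : K ≤ normalizer (E : Set P)) : K = E ∨ K = normalizer (E : Set P) :=
  (eq_or_lt_of_le hK).imp Eq.symm fun h' => le_antisymm hKN (h.normalizer_le hP h')

/-- An element of `N(E)` commuting with `E` modulo a normal subgroup lies in `E`, unless that
subgroup contains the commutator of `N(E)`. -/
theorem IsSoft.commutator_le_of_commuting (hP : IsPGroup p P) (h : IsSoft p E) {Q : Type*} [Group Q]
    (f : P →* Q) {g : P} (hg : g ∈ normalizer (E : Set P)) (hgE : g ∉ E)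
    (hc : ∀ e ∈ E, f e * f g = f g * f e) :
    ⁅normalizer (E : Set P), normalizer (E : Set P)⁆ ≤ f.ker := by
  have hsup : E ⊔ zpowers g = normalizer (E : Set P) := by
    refine ((h.eq_or_eq hP le_sup_left (sup_le le_normalizer (zpowers_le.2 hg))).resolve_left
      fun he => hgE ?_)
    exact he ▸ mem_sup_right (mem_zpowers g)
  have hEc : IsMulCommutative ↥(E.map f) := by
    have := h.comm
    refine ⟨⟨?_⟩⟩
    rintro ⟨_, a, ha, rfl⟩ ⟨_, b, hb, rfl⟩
    exact Subtype.ext (show f a * f b = f b * f a by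
      rw [← map_mul, ← map_mul]
      exact congrArg f (congrArg Subtype.val (mul_comm' (⟨a, ha⟩ : E) ⟨b, hb⟩)))
  have hgc : IsMulCommutative ↥((zpowers g).map f) := by
    rw [MonoidHom.map_zpowers]; infer_instance
  have hab : IsMulCommutative ↥((normalizer (E : Set P)).map f) := by
    rw [← hsup, Subgroup.map_sup]
    refine CfsgLib.PLocal.isMulCommutative_sup hEc hgc ?_
    rw [MonoidHom.map_zpowers, le_centralizer_iff, zpowers_le, mem_centralizer_iff]
    rintro _ ⟨e, he, rfl⟩
    exact hc e he
  rw [← Subgroup.map_eq_bot_iff, map_commutator, commutator_eq_bot_iff_le_centralizer]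
  exact le_centralizer_iff_isMulCommutative.2 hab

/-- `N(E)` is not abelian. -/
theorem IsSoft.commutator_ne_bot (h : IsSoft p E) :
    ⁅normalizer (E : Set P), normalizer (E : Set P)⁆ ≠ ⊥ := fun hb =>
  h.lt_normalizer.not_ge (((commutator_eq_bot_iff_le_centralizer.1 hb).trans
    (centralizer_le le_normalizer)).trans h.cent)

/-- The commutator of `N(E)` lies in `E`. -/
theorem IsSoft.commutator_le (hP : IsPGroup p P) (h : IsSoft p E) :
    ⁅normalizer (E : Set P), normalizer (E : Set P)⁆ ≤ E := by
  obtain ⟨g, hg, hgE⟩ := SetLike.not_le_iff_exists.1 h.lt_normalizer.not_ge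
  have hn : (E.subgroupOf (normalizer (E : Set P))).Normal := normal_in_normalizer
  let f := QuotientGroup.mk' (E.subgroupOf (normalizer (E : Set P)))
  have hc : Std.Commutative (α := _ ⧸ E.subgroupOf (normalizer (E : Set P))) (· * ·) := by
    have hcyc : IsCyclic (↥(normalizer (E : Set P)) ⧸ E.subgroupOf (normalizer (E : Set P))) :=
      isCyclic_of_prime_card (p := p) h.idx
    let := hcyc.commGroup
    exact ⟨mul_comm⟩
  refine Subgroup.commutator_le.2 fun a ha b hb => ?_
  have h1 : f ⁅(⟨a, ha⟩ : normalizer (E : Set P)), ⟨b, hb⟩⁆ = 1 := by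
    rw [map_commutatorElement, commutatorElement_eq_one_iff_commute]
    exact hc.comm _ _
  exact mem_subgroupOf.1 ((QuotientGroup.eq_one_iff _).1 h1)

/-- The commutator of `N(E)` is central in `N(E)`. -/
theorem IsSoft.commutator_le_centralizer (hP : IsPGroup p P) (h : IsSoft p E) :
    ⁅normalizer (E : Set P), normalizer (E : Set P)⁆ ≤
      centralizer (normalizer (E : Set P) : Set P) := by
  have hlt := lt_inf_normalizer hP (lt_top_iff_ne_top.2 h.normalizer_ne_top)
  rw [top_inf_eq] at hlt
  obtain ⟨y, hy, hyN⟩ := SetLike.not_le_iff_exists.1 hlt.not_ge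
  intro t ht
  set N := normalizer (E : Set P) with hN
  have htc : ∀ x ∈ N, y * x * y⁻¹ ∈ N := fun x hx => (mem_normalizer_iff.1 hy x).1 hx
  have hyti : y⁻¹ * t * y ∈ ⁅N, N⁆ := by
    have h1 : t ∈ (⁅N, N⁆).map (MulAut.conj y).toMonoidHom := by
      have hN' : N.map (MulAut.conj y).toMonoidHom = N := mem_normalizer_iff_map_conj_eq.1 hy
      rw [map_commutator, hN']
      exact ht
    obtain ⟨t', ht', rfl⟩ := h1
    simpa [mul_assoc] using ht'
  let B := E.map (MulAut.conj y).toMonoidHom
  have htB : t ∈ B := ⟨y⁻¹ * t * y, h.commutator_le hP hyti, by simp [mul_assoc]⟩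
  have hBN : B ≤ N := by rintro _ ⟨x, hx, rfl⟩; simpa using htc x (le_normalizer hx)
  have hcomm : ∀ (C : Subgroup P), IsMulCommutative ↥C → t ∈ C → C ≤ centralizer ({t} : Set P) :=
    fun C hC htC x hx => mem_centralizer_singleton_iff.2
      (congrArg Subtype.val (mul_comm' (⟨x, hx⟩ : C) ⟨t, htC⟩))
  have hBE : ¬ B ≤ E := fun hle => hyN (mem_normalizer_iff_map_conj_eq.2
    (eq_of_le_of_card_ge hle
      (card_map_of_injective (f := (MulAut.conj y).toMonoidHom) (MulAut.conj y).injective).ge))
  have hsup : E ⊔ B = N := (h.eq_or_eq hP le_sup_left (sup_le le_normalizer hBN)).resolve_left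
    fun he => hBE (he ▸ le_sup_right)
  have hc : N ≤ centralizer ({t} : Set P) := hsup ▸ sup_le (hcomm E h.comm (h.commutator_le hP ht))
    (hcomm B (by have := h.comm; exact Subgroup.map_isMulCommutative E _) htB)
  exact mem_centralizer_iff.2 fun x hx => mem_centralizer_singleton_iff.1 (hc hx)

end CfsgLib.SoftSubgroup
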