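import Cfsg.Agent.SoftSubgroup.Basic
import Cfsg.Agent.PLocal.CommutatorFacts
import Mathlib.GroupTheory.GroupAction.Quotient

/-!
The normalizer of `N(E)` is one step above `N(E)`.
-/

set_option autoImplicit false

namespace CfsgLib.SoftSubgroup

open Subgroup

variable {P : Type*} [Group P] [Finite P] {p : ℕ} [hp : Fact p.Prime] {E : Subgroup P}

theorem IsSoft.relIndex_normalizer_normalizer (hP : IsPGroup p P) (h : IsSoft p E) :
    (normalizer (E : Set P)).relIndex
      (normalizer ((normalizer (E : Set P) : Subgroup P) : Set P)) = p := by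
  classical
  set N := normalizer (E : Set P) with hN
  set M := normalizer (N : Set P) with hM
  have hltM : N < M := by
    have := lt_inf_normalizer hP (lt_top_iff_ne_top.2 h.normalizer_ne_top)
    rwa [top_inf_eq] at this
  obtain ⟨y, hy, hyN⟩ := SetLike.not_le_iff_exists.1 hltM.not_ge
  let B := E.map (MulAut.conj y).toMonoidHom
  set Z := N ⊓ centralizer (N : Set P) with hZ
  have hcardB : Nat.card B = Nat.card E :=
    card_map_of_injective (f := (MulAut.conj y).toMonoidHom) (MulAut.conj y).injective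
  have hBN : B ≤ N := by
    rintro _ ⟨x, hx, rfl⟩
    simpa using (mem_normalizer_iff.1 hy x).1 (le_normalizer hx)
  have hBE : ¬ B ≤ E := fun hle => hyN (mem_normalizer_iff_map_conj_eq.2
    (eq_of_le_of_card_ge hle hcardB.ge))
  have hsup : E ⊔ B = N := (h.eq_or_eq hP le_sup_left (sup_le le_normalizer hBN)).resolve_left
    fun he => hBE (he ▸ le_sup_right)
  have hZE : Z ≤ E := inf_le_right.trans ((centralizer_le le_normalizer).trans h.cent)
  have hcNE : Nat.card E * p = Nat.card N := by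
    rw [← h.idx, ← relIndex_bot_left E, relIndex_mul_relIndex ⊥ E N bot_le le_normalizer,
      relIndex_bot_left]
  -- `E ⊓ B` is central in `N` and has index at most `p` in `E`
  have hEBZ : E ⊓ B ≤ Z := by
    intro x hx
    refine Subgroup.mem_inf.2 ⟨le_normalizer hx.1, ?_⟩
    have hc : N ≤ centralizer ({x} : Set P) := hsup ▸ sup_le
      (fun a ha => mem_centralizer_singleton_iff.2 (by
        have := h.comm
        exact congrArg Subtype.val (mul_comm' (⟨a, ha⟩ : E) ⟨x, hx.1⟩)))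
      (fun a ha => mem_centralizer_singleton_iff.2 (by
        have := h.comm
        have : IsMulCommutative ↥B := Subgroup.map_isMulCommutative E _
        exact congrArg Subtype.val (mul_comm' (⟨a, ha⟩ : B) ⟨x, hx.2⟩)))
    exact mem_centralizer_iff.2 fun a ha => mem_centralizer_singleton_iff.1 (hc ha)
  have hcEB : Nat.card E * Nat.card E ≤ Nat.card N * Nat.card ↥(E ⊓ B) := by
    have := CfsgLib.PLocal.card_sup_mul_card_inf (A := B) (B := E) hBN
    rw [sup_comm, hsup, inf_comm, hcardB] at this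
    exact this.ge
  have hcZ : Nat.card E ≤ p * Nat.card Z := by
    have h1 : Nat.card ↥(E ⊓ B) ≤ Nat.card Z := card_le_of_le hEBZ
    rw [← hcNE] at hcEB
    nlinarith [Nat.card_pos (α := E), Nat.mul_le_mul_left (Nat.card E * p) h1]
  have hZlt : Z < E := lt_of_le_of_ne hZE fun he => h.lt_normalizer.not_ge
    (le_trans (fun x hx => by
      rw [mem_centralizer_iff]
      intro a ha
      exact (mem_centralizer_iff.1 (he.symm ▸ ha : a ∈ Z).2 x hx).symm) h.cent)
  have hcZ' : Nat.card Z * p = Nat.card E := by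
    obtain ⟨k, hk⟩ := IsPGroup.iff_card.1 (hP.to_subgroup E)
    have hd : Nat.card Z ∣ p ^ k := hk ▸ card_dvd_of_le hZE
    obtain ⟨j, hj, hj'⟩ := (Nat.dvd_prime_pow hp.out).1 hd
    have hne : Nat.card Z ≠ Nat.card E := fun he => hZlt.ne (eq_of_le_of_card_ge hZE he.ge)
    rw [hk, hj'] at hne hcZ ⊢
    have hjk : j < k := lt_of_le_of_ne hj fun he => hne (by rw [he])
    have hk1 : k ≤ j + 1 := by
      refine (Nat.pow_le_pow_iff_right hp.out.one_lt).1 ?_
      rw [pow_succ']; exact hcZ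
    rw [show k = j + 1 by omega, pow_succ]
  -- `Z` is normalised by `M`
  have hZM : ∀ m ∈ M, ∀ x ∈ Z, m * x * m⁻¹ ∈ Z := by
    intro m hm x hx
    refine Subgroup.mem_inf.2 ⟨(mem_normalizer_iff.1 hm x).1 hx.1, mem_centralizer_iff.2 fun a ha => ?_⟩
    have ha' : m⁻¹ * a * m ∈ N := (mem_normalizer_iff.1 hm _).2 (by simpa [mul_assoc] using ha)
    have := mem_centralizer_iff.1 hx.2 _ ha'
    calc a * (m * x * m⁻¹) = m * ((m⁻¹ * a * m) * x) * m⁻¹ := by group
      _ = m * (x * (m⁻¹ * a * m)) * m⁻¹ := by rw [this]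
      _ = m * x * m⁻¹ * a := by group
  -- the subgroup generated by `Z` and an element outside it
  have hgen : ∀ e : P, e ∈ E → e ∉ Z → Z ⊔ zpowers e = E := by
    intro e he heZ
    have hle : Z ⊔ zpowers e ≤ E := sup_le hZE (zpowers_le.2 he)
    have hl : Z < Z ⊔ zpowers e := lt_of_le_of_ne le_sup_left fun h' =>
      heZ (h'.symm ▸ mem_sup_right (mem_zpowers e))
    refine eq_of_le_of_card_ge hle ?_
    obtain ⟨c, hc⟩ := card_dvd_of_le hl.le
    have hc1 : c ≠ 1 := fun h' => hl.ne (eq_of_le_of_card_ge hl.le (by rw [hc, h', mul_one]))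
    have hcp : c ∣ p := Nat.dvd_of_mul_dvd_mul_left Nat.card_pos (by
      rw [← hc, hcZ']; exact card_dvd_of_le hle)
    rw [hc, (hp.out.eq_one_or_self_of_dvd c hcp).resolve_left hc1, hcZ']
  -- count
  let Eo := {e : P // e ∈ E ∧ e ∉ Z}
  let No := {x : P // x ∈ N ∧ x ∉ Z}
  let r : ↥M ⧸ N.subgroupOf M → ↥M := Quotient.out
  let Φ : (↥M ⧸ N.subgroupOf M) × Eo → No := fun qe =>
    ⟨(r qe.1 : P) * qe.2.1 * (r qe.1 : P)⁻¹,
      (mem_normalizer_iff.1 (r qe.1).2 _).1 (le_normalizer qe.2.2.1), fun hmem => qe.2.2.2 (by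
        simpa [mul_assoc] using hZM _ (inv_mem (r qe.1).2) _ hmem)⟩
  have hΦ : Function.Injective Φ := by
    rintro ⟨q₁, e₁⟩ ⟨q₂, e₂⟩ heq
    have heq' : (r q₁ : P) * e₁.1 * (r q₁ : P)⁻¹ = (r q₂ : P) * e₂.1 * (r q₂ : P)⁻¹ :=
      congrArg Subtype.val heq
    set d : P := (r q₂ : P)⁻¹ * (r q₁ : P) with hd
    have hdM : d ∈ M := mul_mem (inv_mem (r q₂).2) (r q₁).2
    have hde : d * e₁.1 * d⁻¹ = e₂.1 := by
      calc d * e₁.1 * d⁻¹ = (r q₂ : P)⁻¹ * ((r q₁ : P) * e₁.1 * (r q₁ : P)⁻¹) * (r q₂ : P) := by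
            rw [hd]; group
        _ = e₂.1 := by rw [heq']; group
    have hdN : d ∈ N := by
      refine mem_normalizer_iff_map_conj_eq.2 (eq_of_le_of_card_ge ?_
        (card_map_of_injective (f := (MulAut.conj d).toMonoidHom) (MulAut.conj d).injective).ge)
      conv_lhs => rw [← hgen _ e₁.2.1 e₁.2.2]
      rw [Subgroup.map_sup, sup_le_iff]
      refine ⟨?_, ?_⟩
      · rintro _ ⟨x, hx, rfl⟩
        exact hZE (by simpa using hZM d hdM x hx)
      · rw [MonoidHom.map_zpowers, zpowers_le]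
        simpa [hde] using e₂.2.1
    have hq : q₂ = q₁ := by
      rw [← Quotient.out_eq q₁, ← Quotient.out_eq q₂]
      exact QuotientGroup.eq.2 (mem_subgroupOf.2 (by simpa [hd, r] using hdN))
    subst hq
    refine Prod.ext rfl (Subtype.ext ?_)
    simpa [mul_assoc] using heq'
  have hcardEo : ∀ (H : Subgroup P), Z ≤ H →
      Nat.card {x : P // x ∈ H ∧ x ∉ Z} + Nat.card Z = Nat.card H := by
    intro H hH
    have h1 := Set.ncard_sdiff_add_ncard_of_subset (s := (Z : Set P)) (t := (H : Set P)) hH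
    rw [← Nat.card_coe_set_eq, ← Nat.card_coe_set_eq, ← Nat.card_coe_set_eq] at h1
    exact h1
  have hle := Nat.card_le_card_of_injective Φ hΦ
  rw [Nat.card_prod] at hle
  have h1 := hcardEo E hZE
  have h2 := hcardEo N (hZE.trans le_normalizer)
  have hidx : Nat.card (↥M ⧸ N.subgroupOf M) = N.relIndex M := rfl
  obtain ⟨j, hj⟩ := (hP.to_subgroup M).index (N.subgroupOf M)
  change N.relIndex M = p ^ j at hj
  rw [hidx, hj] at hle
  have hz := Nat.card_pos (α := Z)
  have hpp := hp.out.two_le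
  have hb : p ^ j ≤ p + 1 := by
    change p ^ j * Nat.card Eo ≤ Nat.card No at hle
    have hEo : Nat.card Eo = (p - 1) * Nat.card Z := by
      rw [Nat.sub_mul, one_mul, mul_comm p, hcZ', ← h1, Nat.add_sub_cancel]
    have hNo : Nat.card No = (p * p - 1) * Nat.card Z := by
      rw [Nat.sub_mul, one_mul, show p * p * Nat.card Z = Nat.card N by rw [← hcNE, ← hcZ']; ring,
        ← h2, Nat.add_sub_cancel]
    rw [hEo, hNo, show (p * p - 1) = (p + 1) * (p - 1) by
      rcases Nat.exists_eq_add_of_le hpp with ⟨t, rfl⟩; simp; ring_nf; omega, ← mul_assoc] at hle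
    exact Nat.le_of_mul_le_mul_right (Nat.le_of_mul_le_mul_right hle hz) (by omega)
  have hj1 : j < 2 := by
    by_contra hj2
    have := Nat.pow_le_pow_right hp.out.pos (not_lt.1 hj2)
    nlinarith
  have hj0 : j ≠ 0 := fun h0 => hltM.not_ge (relIndex_eq_one.1 (by rw [hj, h0, pow_zero]))
  rw [hj, show j = 1 by omega, pow_one]

end CfsgLib.SoftSubgroup
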